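import Mathlib

/-!
# Fixed points of a Sylow subgroup: the deficit `(p - 1) n - (2 p - 1) f`
-/

namespace Cfsg.Agent.SylowFixed

open MulAction

universe u v

variable {p : ℕ} [Fact p.Prime]

section Defs

/-- Number of points fixed by a Sylow `p`-subgroup. -/
noncomputable def fxN (p : ℕ) (G : Type u) [Group G] (X : Type v) [MulAction G X] : ℕ :=
  Nat.card ↥(fixedPoints ↥((default : Sylow p G) : Subgroup G) X)

/-- The deficit `(p - 1) n - (2 p - 1) f`. -/
noncomputable def dfct (p : ℕ) (G : Type u) [Group G] (X : Type v) [MulAction G X] : ℤ :=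
  ((p : ℤ) - 1) * Nat.card X - (2 * (p : ℤ) - 1) * fxN p G X

/-- The subgroup generated by the elements of `p`-power order of `H`. -/
def pGen (p : ℕ) {G : Type u} [Group G] (H : Subgroup G) : Subgroup G :=
  Subgroup.closure {g : G | g ∈ H ∧ ∃ k : ℕ, orderOf g = p ^ k}

end Defs

variable {G : Type u} [Group G] [Finite G]

omit [Finite G] [Fact p.Prime] in
theorem sylow_smul_mem {P Q : Sylow p G} {g : G} (hg : g • P = Q) {x : G} :
    x ∈ (Q : Subgroup G) ↔ g⁻¹ * x * g ∈ (P : Subgroup G) := by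
  rw [← hg, Sylow.coe_subgroup_smul, Subgroup.mem_pointwise_smul_iff_inv_smul_mem]
  simp

omit [Finite G] in
theorem mem_fixed_iff {X : Type v} [MulAction G X] {H : Subgroup G} {x : X} :
    x ∈ fixedPoints ↥H X ↔ ∀ h ∈ H, h • x = x := by
  refine ⟨fun hx h hh => ?_, fun hx h => hx h.1 h.2⟩
  exact hx (⟨h, hh⟩ : ↥H)

theorem fxN_eq (X : Type v) [MulAction G X] (P : Sylow p G) :
    fxN p G X = Nat.card ↥(fixedPoints ↥(P : Subgroup G) X) := by
  obtain ⟨g, hg⟩ := exists_smul_eq G (default : Sylow p G) P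
  refine Nat.card_congr (Equiv.subtypeEquiv (MulAction.toPerm g) fun x => ?_)
  simp only [mem_fixed_iff, MulAction.toPerm_apply]
  constructor
  · intro hx y hy
    have h := hx _ ((sylow_smul_mem hg).1 hy)
    rw [mul_smul, mul_smul, inv_smul_eq_iff] at h
    exact h
  · intro hx y hy
    have h := hx (g * y * g⁻¹) ((sylow_smul_mem hg).2 (by simpa [mul_assoc] using hy))
    rw [mul_smul, mul_smul, inv_smul_smul] at h
    exact (MulAction.injective g) h

omit [Finite G] in
theorem fxN_modEq (X : Type v) [MulAction G X] [Finite X] :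
    Nat.card X ≡ fxN p G X [MOD p] :=
  (default : Sylow p G).isPGroup'.card_modEq_card_fixedPoints X

omit [Finite G] in
theorem dvd_dfct (X : Type v) [MulAction G X] [Finite X] : (p : ℤ) ∣ dfct p G X := by
  obtain ⟨c, hc⟩ := Nat.modEq_iff_dvd.1 (fxN_modEq (p := p) (G := G) X)
  refine ⟨(Nat.card X : ℤ) - 2 * (fxN p G X : ℤ) + c, ?_⟩
  unfold dfct
  linear_combination hc

theorem fxN_subgroup (X : Type v) [MulAction G X] (L : Subgroup G) (P : Sylow p G)
    (hP : (P : Subgroup G) ≤ L) : fxN p ↥L X = fxN p G X := by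
  rw [fxN_eq X (P.subtype hP), fxN_eq X P]
  refine congrArg (fun s : Set X => Nat.card ↥s) (Set.ext fun x => ?_)
  refine ⟨fun h y => h ⟨⟨y, hP y.2⟩, y.2⟩, fun h y => h ⟨y.1.1, y.2⟩⟩

theorem dfct_subgroup (X : Type v) [MulAction G X] (L : Subgroup G) (P : Sylow p G)
    (hP : (P : Subgroup G) ≤ L) : dfct p ↥L X = dfct p G X := by
  simp only [dfct, fxN_subgroup X L P hP]

/-- Splitting the deficit along orbits. -/
theorem dfct_orbit_split (hMain : ∀ H : Subgroup G, H ≠ ⊤ → 0 ≤ dfct p G (G ⧸ H))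
    (X : Type v) [MulAction G X] [Finite X] :
    0 ≤ dfct p G X + (p : ℤ) * Nat.card ↥(fixedPoints G X) ∧
      ∀ x : X, dfct p G (G ⧸ stabilizer G x) ≤
        dfct p G X + (p : ℤ) * Nat.card ↥(fixedPoints G X) := by
  classical
  have : Fintype X := Fintype.ofFinite X
  have : Fintype (orbitRel.Quotient G X) := Fintype.ofFinite _
  set S : Subgroup G := ((default : Sylow p G) : Subgroup G) with hS
  let w : X → ℤ := fun x =>
    ((p : ℤ) - 1) - (2 * (p : ℤ) - 1) * (if x ∈ fixedPoints ↥S X then 1 else 0)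
  let e : X → ℤ := fun x => (p : ℤ) * (if x ∈ fixedPoints G X then 1 else 0)
  let fib : orbitRel.Quotient G X → Finset X := fun ω =>
    Finset.univ.filter fun y => (Quotient.mk'' y : orbitRel.Quotient G X) = ω
  have htot : ∑ x, (w x + e x) = dfct p G X + (p : ℤ) * Nat.card ↥(fixedPoints G X) := by
    simp only [w, e, Finset.sum_add_distrib, Finset.sum_sub_distrib, ← Finset.mul_sum,
      Finset.sum_boole, Finset.sum_const, Finset.card_univ, nsmul_eq_mul, dfct, fxN,
      Nat.card_eq_fintype_card]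
    rw [Fintype.card_subtype, Fintype.card_subtype]
    ring
  have hfib : ∀ x : X, fib (Quotient.mk'' x) =
      (@Finset.univ _ (Fintype.ofFinite (G ⧸ stabilizer G x))).image (ofQuotientStabilizer G x) := by
    intro x
    ext y
    simp only [fib, Finset.mem_filter, Finset.mem_univ, true_and, Finset.mem_image]
    rw [Quotient.eq'', orbitRel_apply]
    constructor
    · rintro ⟨g, rfl⟩
      exact ⟨(g : G ⧸ stabilizer G x), rfl⟩
    · rintro ⟨a, rfl⟩
      induction a using QuotientGroup.induction_on with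
      | H g => exact ⟨g, rfl⟩
  have hw : ∀ x : X, ∑ y ∈ fib (Quotient.mk'' x), w y = dfct p G (G ⧸ stabilizer G x) := by
    intro x
    let _ : Fintype (G ⧸ stabilizer G x) := Fintype.ofFinite _
    rw [hfib x, Finset.sum_image ((injective_ofQuotientStabilizer G x).injOn)]
    have hfix : ∀ a : G ⧸ stabilizer G x,
        ofQuotientStabilizer G x a ∈ fixedPoints ↥S X ↔ a ∈ fixedPoints ↥S (G ⧸ stabilizer G x) := by
      intro a
      refine forall_congr' fun y => ?_
      change (y : G) • ofQuotientStabilizer G x a = _ ↔ (y : G) • a = a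
      rw [← ofQuotientStabilizer_smul]
      exact (injective_ofQuotientStabilizer G x).eq_iff
    simp only [w, hfix, Finset.sum_sub_distrib, ← Finset.mul_sum, Finset.sum_boole,
      Finset.sum_const, Finset.card_univ, nsmul_eq_mul, dfct, fxN, Nat.card_eq_fintype_card]
    rw [Fintype.card_subtype]
    ring_nf
    rfl
  have hp1 : (1 : ℤ) ≤ p := by exact_mod_cast (Fact.out : p.Prime).one_lt.le
  have he : ∀ y, 0 ≤ e y := fun y => mul_nonneg (by linarith) (by split_ifs <;> norm_num)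
  have hnn : ∀ ω, 0 ≤ ∑ y ∈ fib ω, (w y + e y) := by
    intro ω
    obtain ⟨x, rfl⟩ := Quotient.exists_rep ω
    change 0 ≤ ∑ y ∈ fib (Quotient.mk'' x), (w y + e y)
    by_cases hx : stabilizer G x = ⊤
    · have hfx : x ∈ fixedPoints G X := fun g => mem_stabilizer_iff.1 (hx ▸ Subgroup.mem_top g)
      have h1 : fib (Quotient.mk'' x) = {x} := by
        ext y
        simp only [fib, Finset.mem_filter, Finset.mem_univ, true_and, Finset.mem_singleton]
        rw [Quotient.eq'', orbitRel_apply]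
        refine ⟨?_, fun h => ⟨1, by simpa using h.symm⟩⟩
        rintro ⟨g, rfl⟩
        exact hfx g
      have h2 : x ∈ fixedPoints ↥S X := fun g => hfx g.1
      simp only [h1, Finset.sum_singleton, w, e, if_pos hfx, if_pos h2]
      linarith
    · rw [Finset.sum_add_distrib]
      exact add_nonneg (hw x ▸ hMain _ hx) (Finset.sum_nonneg fun y _ => he y)
  have hsum : ∑ ω, ∑ y ∈ fib ω, (w y + e y) =
      dfct p G X + (p : ℤ) * Nat.card ↥(fixedPoints G X) := by
    rw [← htot]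
    exact Finset.sum_fiberwise _ _ _
  refine ⟨hsum ▸ Finset.sum_nonneg fun ω _ => hnn ω, fun x => ?_⟩
  calc dfct p G (G ⧸ stabilizer G x)
      = ∑ y ∈ fib (Quotient.mk'' x), w y := (hw x).symm
    _ ≤ ∑ y ∈ fib (Quotient.mk'' x), (w y + e y) :=
        Finset.sum_le_sum fun y _ => le_add_of_nonneg_right (he y)
    _ ≤ ∑ ω, ∑ y ∈ fib ω, (w y + e y) :=
        Finset.single_le_sum (fun ω _ => hnn ω) (Finset.mem_univ _)
    _ = _ := hsum

omit [Finite G] [Fact p.Prime] in
/-- A fixed coset gives a conjugate Sylow subgroup inside. -/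
theorem exists_sylow_le {H : Subgroup G} (h : fxN p G (G ⧸ H) ≠ 0) :
    ∃ Q : Sylow p G, (Q : Subgroup G) ≤ H := by
  obtain ⟨⟨⟨C, hC⟩⟩, -⟩ := Nat.card_ne_zero.1 h
  induction C using QuotientGroup.induction_on with
  | H g =>
    refine ⟨g⁻¹ • (default : Sylow p G), fun y hy => ?_⟩
    have h1 := (sylow_smul_mem rfl).1 hy
    rw [inv_inv] at h1
    have h2 := mem_fixed_iff.1 hC _ h1
    rw [MulAction.Quotient.smul_coe, smul_eq_mul, QuotientGroup.eq] at h2
    simpa [mul_assoc] using inv_mem h2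

omit [Finite G] in
theorem base_mem_fixed {H K : Subgroup G} :
    ((1 : G) : G ⧸ H) ∈ fixedPoints ↥K (G ⧸ H) ↔ K ≤ H := by
  refine ⟨fun h y hy => ?_, fun h y => ?_⟩
  · have h1 : y • ((1 : G) : G ⧸ H) = ((1 : G) : G ⧸ H) := h ⟨y, hy⟩
    rwa [← mem_stabilizer_iff, stabilizer_quotient] at h1
  · change (y : G) • ((1 : G) : G ⧸ H) = ((1 : G) : G ⧸ H)
    rw [← mem_stabilizer_iff, stabilizer_quotient]
    exact h y.2

/-- Passing from `M` down to a subgroup `H`. -/
theorem dfct_le_step {H M : Subgroup G} (hHM : H ≤ M) :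
    ∃ g : ℕ, p ∣ g ∧
      dfct p G (G ⧸ H) = (H.relIndex M : ℤ) * dfct p G (G ⧸ M) + (2 * (p : ℤ) - 1) * g ∧
      (g = 0 → ∀ Q : Sylow p G, (Q : Subgroup G) ≤ M → (Q : Subgroup G) ≤ H) := by
  classical
  set r := H.relIndex M with hr
  let π : G ⧸ H → G ⧸ M := fun C => (Subgroup.quotientEquivProdOfLE hHM C).1
  have hπ : ∀ (x : G) (C : G ⧸ H), π (x • C) = x • π C := by
    intro x C
    induction C using QuotientGroup.induction_on with
    | H a => rfl
  have hle : ∀ (S : Subgroup G) (C : G ⧸ H), C ∈ fixedPoints ↥S (G ⧸ H) →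
      π C ∈ fixedPoints ↥S (G ⧸ M) := by
    intro S C hC x
    have h : (x : G) • C = C := hC x
    change (x : G) • π C = π C
    rw [← hπ, h]

  have hcard : ∀ T : Set (G ⧸ M), (π ⁻¹' T).ncard = T.ncard * r := by
    intro T
    have h : ↥(π ⁻¹' T) ≃ ↥T × (↥M ⧸ H.subgroupOf M) :=
      (Equiv.subtypeEquiv (q := fun z : (G ⧸ M) × (↥M ⧸ H.subgroupOf M) => z.1 ∈ T)
        (Subgroup.quotientEquivProdOfLE hHM) fun _ => Iff.rfl).trans
        ⟨fun z => (⟨z.1.1, z.2⟩, z.1.2), fun z => ⟨(z.1.1, z.2), z.1.2⟩, fun _ => rfl,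
          fun _ => rfl⟩
    rw [← Nat.card_coe_set_eq, Nat.card_congr h, Nat.card_prod, Nat.card_coe_set_eq,
      ← Subgroup.index_eq_card]
    rfl
  let S : Subgroup G := ((default : Sylow p G) : Subgroup G)
  have hsub : fixedPoints ↥S (G ⧸ H) ⊆ π ⁻¹' fixedPoints ↥S (G ⧸ M) := fun C hC => hle S C hC
  have hfle : fxN p G (G ⧸ H) ≤ fxN p G (G ⧸ M) * r := by
    rw [fxN, fxN, Nat.card_coe_set_eq, Nat.card_coe_set_eq, ← hcard]
    exact Set.ncard_le_ncard hsub
  have hn : Nat.card (G ⧸ H) = r * Nat.card (G ⧸ M) := by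
    rw [← Subgroup.index_eq_card, ← Subgroup.index_eq_card, Subgroup.relIndex_mul_index hHM]
  refine ⟨fxN p G (G ⧸ M) * r - fxN p G (G ⧸ H), ?_, ?_, ?_⟩
  · rw [← Nat.modEq_iff_dvd' hfle]
    refine ((fxN_modEq _).symm.trans ?_)
    rw [hn, mul_comm r]
    exact (fxN_modEq _).mul_right r
  · rw [Nat.cast_sub hfle, dfct, dfct, hn]
    push_cast
    ring
  · intro h0 Q hQ
    have he : fixedPoints ↥(Q : Subgroup G) (G ⧸ H) =
        π ⁻¹' fixedPoints ↥(Q : Subgroup G) (G ⧸ M) := by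
      refine Set.eq_of_subset_of_ncard_le (fun C hC => hle _ C hC) ?_
      have e1 := fxN_eq (G ⧸ H) Q
      have e2 := fxN_eq (G ⧸ M) Q
      rw [Nat.card_coe_set_eq] at e1 e2
      rw [hcard]
      exact e1 ▸ e2 ▸ (by omega)
    refine base_mem_fixed.1 ?_
    rw [he]
    exact base_mem_fixed.2 hQ

/-! ### The subgroup generated by `p`-elements -/

omit [Finite G] [Fact p.Prime] in
theorem pGen_le (H : Subgroup G) : pGen p H ≤ H :=
  (Subgroup.closure_le _).2 fun _ hx => hx.1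

omit [Finite G] in
theorem sylow_le_pGen {H : Subgroup G} {P : Sylow p G} (hP : (P : Subgroup G) ≤ H) :
    (P : Subgroup G) ≤ pGen p H := by
  intro x hx
  refine Subgroup.subset_closure ⟨hP hx, ?_⟩
  obtain ⟨k, hk⟩ := IsPGroup.iff_orderOf.1 P.isPGroup' ⟨x, hx⟩
  exact ⟨k, by rwa [Subgroup.orderOf_mk] at hk⟩

omit [Finite G] [Fact p.Prime] in
theorem pGen_generated (H : Subgroup G) :
    Subgroup.closure {x : ↥(pGen p H) | ∃ k : ℕ, orderOf x = p ^ k} = ⊤ := by
  refine top_unique (le_trans (ge_of_eq Subgroup.closure_closure_coe_preimage)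
    (Subgroup.closure_mono ?_))
  rintro x ⟨-, k, hk⟩
  exact ⟨k, (Subgroup.orderOf_coe x).symm.trans hk⟩

omit [Finite G] [Fact p.Prime] in
theorem pGen_map (φ : G ≃* G) (H : Subgroup G) :
    pGen p (H.map φ.toMonoidHom) = (pGen p H).map φ.toMonoidHom := by
  rw [pGen, pGen, MonoidHom.map_closure]
  congr 1
  ext x
  simp only [Set.mem_ofPred_eq, Set.mem_image, Subgroup.mem_map, MulEquiv.coe_toMonoidHom]
  constructor
  · rintro ⟨⟨y, hy, rfl⟩, k, hk⟩
    exact ⟨y, ⟨hy, k, by rwa [MulEquiv.orderOf_eq] at hk⟩, rfl⟩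
  · rintro ⟨y, ⟨hy, k, hk⟩, rfl⟩
    exact ⟨⟨y, hy, rfl⟩, k, by rwa [MulEquiv.orderOf_eq]⟩

/-- A normal subgroup containing a Sylow `p`-subgroup contains every `p`-element. -/
theorem mem_of_pElement (N : Subgroup G) [N.Normal] (P : Sylow p G) (hP : (P : Subgroup G) ≤ N)
    {x : G} {k : ℕ} (hx : orderOf x = p ^ k) : x ∈ N := by
  have hz : IsPGroup p ↥(Subgroup.zpowers x) :=
    IsPGroup.of_card (n := k) (by rw [Nat.card_zpowers, hx])
  obtain ⟨Q, hQ⟩ := hz.exists_le_sylow
  obtain ⟨g, hg⟩ := exists_smul_eq G P Q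
  have := hP ((sylow_smul_mem hg).1 (hQ (Subgroup.mem_zpowers x)))
  simpa [mul_assoc] using Subgroup.Normal.conj_mem ‹N.Normal› _ this g

end Cfsg.Agent.SylowFixed
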