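import Mathlib
import Cfsg.Agent.Lib.SylowFixed.Deficit

/-!
# The bound `(2 p - 1) f ≤ (p - 1) n` for groups generated by their `p`-elements

`f` is the number of fixed points of a Sylow `p`-subgroup in a nontrivial transitive action of
degree `n`.  The proof is elementary: a counterexample with a maximal point stabiliser would make
any `p` points containing the base point have a common fixing Sylow subgroup.
-/

namespace Cfsg.Agent.SylowFixed

open MulAction

universe u

variable {p : ℕ} [Fact p.Prime]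

/-- The bound for all groups of order at most `N`. -/
def MainAt (p N : ℕ) : Prop :=
  ∀ (G : Type u) [Group G] [Finite G], Nat.card G ≤ N →
    Subgroup.closure {g : G | ∃ k : ℕ, orderOf g = p ^ k} = ⊤ →
    ∀ H : Subgroup G, H ≠ ⊤ → 0 ≤ dfct p G (G ⧸ H)

variable {G : Type u} [Group G] [Finite G]

theorem eq_top_of_normal (hgen : Subgroup.closure {g : G | ∃ k : ℕ, orderOf g = p ^ k} = ⊤)
    (N : Subgroup G) [N.Normal] (P : Sylow p G) (hP : (P : Subgroup G) ≤ N) : N = ⊤ :=
  top_unique (hgen ▸ (Subgroup.closure_le _).2 fun _ ⟨_, hk⟩ => mem_of_pElement N P hP hk)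

omit [Finite G] in
theorem map_conj_self {H : Subgroup G} {x : G} (hx : x ∈ H) :
    H.map (MulAut.conj x).toMonoidHom = H := by
  ext y
  rw [Subgroup.mem_map_equiv, MulAut.conj_symm_apply, Subgroup.mul_mem_cancel_right H hx,
    Subgroup.mul_mem_cancel_left H (inv_mem hx)]

omit [Finite G] in
theorem mem_normalizer_of_map_conj {H : Subgroup G} {x : G}
    (hx : H.map (MulAut.conj x).toMonoidHom = H) : x ∈ Subgroup.normalizer (H : Set G) := by
  refine Subgroup.mem_normalizer_iff.2 fun h => ?_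
  conv_rhs => rw [← hx, Subgroup.mem_map_equiv, MulAut.conj_symm_apply]
  simp [mul_assoc]

omit [Finite G] [Fact p.Prime] in
theorem le_normalizer_pGen (H : Subgroup G) :
    H ≤ Subgroup.normalizer (pGen p H : Set G) := fun x hx =>
  mem_normalizer_of_map_conj (by rw [← pGen_map, map_conj_self hx])

omit [Finite G] in
theorem base_stabilizer (H : Subgroup G) : stabilizer G ((1 : G) : G ⧸ H) = H :=
  stabilizer_quotient H

/-- A subgroup `pGen p M₁` at least as large as `pGen p M` fixes at most one coset of `M`. -/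
theorem fixed_le_one (hgen : Subgroup.closure {g : G | ∃ k : ℕ, orderOf g = p ^ k} = ⊤)
    {M M₁ : Subgroup G} (hM : IsCoatom M) (hM₁ : M₁ ≠ ⊤) (P₁ : Sylow p G) (hP₁ : (P₁ : Subgroup G) ≤ M₁)
    (hcard : Nat.card ↥(pGen p M) ≤ Nat.card ↥(pGen p M₁)) :
    Nat.card ↥(fixedPoints ↥(pGen p M₁) (G ⧸ M)) ≤ 1 := by
  set L₁ := pGen p M₁ with hL₁
  have hnorm : Subgroup.normalizer (L₁ : Set G) ≠ ⊤ := by
    intro h
    have : L₁.Normal := Subgroup.normalizer_eq_top_iff.1 h
    exact hM₁ (top_unique ((eq_top_of_normal hgen L₁ P₁ (sylow_le_pGen hP₁)).ge.trans (pGen_le _)))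
  have key : ∀ C : G ⧸ M, C ∈ fixedPoints ↥L₁ (G ⧸ M) →
      IsCoatom (stabilizer G C) ∧ stabilizer G C = Subgroup.normalizer (L₁ : Set G) := by
    intro C hC
    obtain ⟨g, hg⟩ := exists_smul_eq G ((1 : G) : G ⧸ M) C
    have hs : stabilizer G C = M.map (MulAut.conj g).toMonoidHom := by
      rw [← hg, stabilizer_smul_eq_stabilizer_map_conj, base_stabilizer]
    have hco : IsCoatom (stabilizer G C) := by
      rw [hs]
      exact ((MulAut.conj g).mapSubgroup.isCoatom_iff M).2 hM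
    have hle : L₁ ≤ stabilizer G C := fun x hx => mem_stabilizer_iff.2 (hC ⟨x, hx⟩)
    have hle' : L₁ ≤ pGen p (stabilizer G C) :=
      Subgroup.closure_mono fun x hx => ⟨hle (Subgroup.subset_closure hx), hx.2⟩
    have heq : L₁ = pGen p (stabilizer G C) := by
      refine Subgroup.eq_of_le_of_card_ge hle' ?_
      rw [hs, pGen_map, Subgroup.card_map_of_injective (MulAut.conj g).injective]
      exact hcard
    refine ⟨hco, ?_⟩
    have h := le_normalizer_pGen (p := p) (stabilizer G C)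
    rw [← heq] at h
    exact ((hco.le_iff.1 h).resolve_left hnorm).symm
  rw [Finite.card_le_one_iff_subsingleton]
  refine ⟨fun ⟨C, hC⟩ ⟨C', hC'⟩ => Subtype.ext ?_⟩
  obtain ⟨g, hg⟩ := exists_smul_eq G C C'
  obtain ⟨hco, hs⟩ := key C hC
  have hgn : g ∈ Subgroup.normalizer (stabilizer G C : Set G) := by
    refine mem_normalizer_of_map_conj ?_
    rw [← stabilizer_smul_eq_stabilizer_map_conj, hg, (key C' hC').2, hs]
  rcases hco.le_iff.1 Subgroup.le_normalizer with h | h
  · exfalso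
    have : (stabilizer G C).Normal := Subgroup.normalizer_eq_top_iff.1 h
    exact hco.1 (eq_top_of_normal hgen _ P₁
      ((sylow_le_pGen hP₁).trans fun x hx => mem_stabilizer_iff.2 (hC ⟨x, hx⟩)))
  · rw [h, mem_stabilizer_iff, hg] at hgn
    exact hgn.symm

/-- A Sylow subgroup of `L` is one of `G` if `L` contains one. -/
theorem exists_sylow_lift {L : Subgroup G} (P₀ : Sylow p G) (hP₀ : (P₀ : Subgroup G) ≤ L)
    (Q : Sylow p ↥L) :
    ∃ R : Sylow p G, ∀ x ∈ (R : Subgroup G), ∃ hx : x ∈ L, (⟨x, hx⟩ : ↥L) ∈ (Q : Subgroup ↥L) := by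
  have h : Nat.card ↥((Q : Subgroup ↥L).map L.subtype) = p ^ (Nat.card G).factorization p := by
    rw [Subgroup.card_map_of_injective L.subtype_injective, Q.card_eq_multiplicity,
      ← (P₀.subtype hP₀).card_eq_multiplicity, Sylow.coe_subtype,
      Nat.card_congr (Subgroup.subgroupOfEquivOfLe hP₀).toEquiv, P₀.card_eq_multiplicity]
  refine ⟨Sylow.ofCard _ h, fun x hx => ?_⟩
  obtain ⟨y, hy, rfl⟩ := Subgroup.mem_map.1 hx
  exact ⟨y.2, hy⟩

/-- If few subgroups have small deficit, some Sylow subgroup lies in all of them. -/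
theorem exists_common_sylow {N : ℕ} (hN : MainAt.{u} p N) :
    ∀ (m : ℕ) (G : Type u) [Group G] [Finite G], Nat.card G ≤ N →
      Subgroup.closure {g : G | ∃ k : ℕ, orderOf g = p ^ k} = ⊤ →
      ∀ (t : ℕ) (s : Finset (Subgroup G)), s.card ≤ m → t + m ≤ p - 1 →
      (∀ H ∈ s, dfct p G (G ⧸ H) ≤ p * t) →
      ∃ P : Sylow p G, ∀ H ∈ s, (P : Subgroup G) ≤ H := by
  intro m
  induction m with
  | zero =>
    intro G _ _ _ _ t s hs _ _
    refine ⟨default, fun H hH => ?_⟩
    rw [Finset.card_eq_zero.1 (Nat.le_zero.1 hs)] at hH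
    exact absurd hH (Finset.notMem_empty H)
  | succ m ih =>
    intro G _ _ hG hgen t s hs htm hD
    classical
    rcases (s.filter (· ≠ ⊤)).eq_empty_or_nonempty with he | hne
    · refine ⟨default, fun H hH => ?_⟩
      have : H = ⊤ := of_not_not fun h =>
        Finset.notMem_empty H (he ▸ Finset.mem_filter.2 ⟨hH, h⟩)
      exact this ▸ le_top
    let M' : Subgroup G → Subgroup G := fun H => if h : H ≠ ⊤ then
      ((eq_top_or_exists_le_coatom H).resolve_left h).choose else ⊤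
    have hM' : ∀ H : Subgroup G, H ≠ ⊤ → IsCoatom (M' H) ∧ H ≤ M' H := by
      intro H h
      simp only [M', dif_pos h]
      exact ((eq_top_or_exists_le_coatom H).resolve_left h).choose_spec
    have hp2 : 2 ≤ p := (Fact.out : p.Prime).two_le
    have hfacts : ∀ H ∈ s.filter (· ≠ ⊤), (∃ Q : Sylow p G, (Q : Subgroup G) ≤ M' H) ∧
        dfct p G (G ⧸ M' H) ≤ p * t ∧
        ∀ Q : Sylow p G, (Q : Subgroup G) ≤ M' H → (Q : Subgroup G) ≤ H := by
      intro H hH
      obtain ⟨hHs, hHtop⟩ := Finset.mem_filter.1 hH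
      obtain ⟨hco, hle⟩ := hM' H hHtop
      have hDH := hD H hHs
      have hfx : fxN p G (G ⧸ H) ≠ 0 := by
        intro h0
        have hdvd : p ∣ Nat.card (G ⧸ H) :=
          Nat.modEq_zero_iff_dvd.1 (h0 ▸ fxN_modEq (p := p) (G := G) (G ⧸ H))
        have hn : (p : ℤ) ≤ Nat.card (G ⧸ H) := by exact_mod_cast Nat.le_of_dvd Nat.card_pos hdvd
        have ht : (t : ℤ) + 2 ≤ p := by exact_mod_cast (by omega : t + 2 ≤ p)
        rw [dfct, h0] at hDH
        push_cast at hDH
        nlinarith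
      obtain ⟨Q, hQ⟩ := exists_sylow_le hfx
      obtain ⟨g, hpg, heq, hzero⟩ := dfct_le_step (p := p) hle
      have hg : g = 0 := by
        by_contra hg
        have h1 : (p : ℤ) ≤ g := by exact_mod_cast Nat.le_of_dvd (Nat.pos_of_ne_zero hg) hpg
        have h2 : 0 ≤ dfct p G (G ⧸ M' H) := hN G hG hgen _ hco.1
        have ht : (t : ℤ) + 2 ≤ p := by exact_mod_cast (by omega : t + 2 ≤ p)
        have hr : (0 : ℤ) ≤ (H.relIndex (M' H) : ℤ) := Int.natCast_nonneg _
        nlinarith [mul_nonneg hr h2]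
      refine ⟨⟨Q, hQ.trans hle⟩, ?_, hzero hg⟩
      have h2 : 0 ≤ dfct p G (G ⧸ M' H) := hN G hG hgen _ hco.1
      have hr : (1 : ℤ) ≤ (H.relIndex (M' H) : ℤ) := by
        have := Subgroup.index_ne_zero_of_finite (H := H)
        rw [← Subgroup.relIndex_mul_index hle] at this
        exact_mod_cast Nat.one_le_iff_ne_zero.2 (left_ne_zero_of_mul this)
      rw [hg] at heq
      push_cast at heq
      nlinarith [le_mul_of_one_le_left h2 hr]
    obtain ⟨H₁, hH₁, hmax⟩ := Finset.exists_max_image (s.filter (· ≠ ⊤))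
      (fun H => Nat.card ↥(pGen p (M' H))) hne
    have hH₁top := (Finset.mem_filter.1 hH₁).2
    obtain ⟨⟨P₁, hP₁⟩, -, hdown₁⟩ := hfacts H₁ hH₁
    set L₁ := pGen p (M' H₁) with hL₁
    have hL₁G : Nat.card ↥L₁ ≤ N := L₁.card_le_card_group.trans hG
    let s₁ : Finset (Subgroup ↥L₁) := ((s.filter (· ≠ ⊤)).erase H₁).image
      fun H => stabilizer ↥L₁ ((1 : G) : G ⧸ M' H)
    have hs₁ : s₁.card ≤ m := by
      refine Finset.card_image_le.trans ?_
      have h := (Finset.card_filter_le s (· ≠ ⊤)).trans hs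
      rw [Finset.card_erase_of_mem hH₁]
      omega
    have hbound : ∀ K ∈ s₁, dfct p ↥L₁ (↥L₁ ⧸ K) ≤ p * ((t + 1 : ℕ) : ℤ) := by
      intro K hK
      obtain ⟨H, hH, rfl⟩ := Finset.mem_image.1 hK
      have hHf := Finset.mem_of_mem_erase hH
      obtain ⟨-, hDM, -⟩ := hfacts H hHf
      have h1 := (dfct_orbit_split (hN ↥L₁ hL₁G (pGen_generated _)) (G ⧸ M' H)).2 ((1 : G) : G ⧸ M' H)
      have h2 := fixed_le_one hgen (hM' H (Finset.mem_filter.1 hHf).2).1 (hM' H₁ hH₁top).1.1
        P₁ hP₁ (hmax H hHf)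
      have e : dfct p ↥L₁ (G ⧸ M' H) = dfct p G (G ⧸ M' H) :=
        dfct_subgroup (G ⧸ M' H) L₁ P₁ (sylow_le_pGen hP₁)
      rw [e] at h1
      have h3 : (Nat.card ↥(fixedPoints ↥L₁ (G ⧸ M' H)) : ℤ) ≤ 1 := by exact_mod_cast h2
      push_cast
      nlinarith
    obtain ⟨Q, hQ⟩ := ih ↥L₁ hL₁G (pGen_generated _) (t + 1) s₁ hs₁ (by omega) hbound
    obtain ⟨R, hR⟩ := exists_sylow_lift P₁ (sylow_le_pGen hP₁) Q
    refine ⟨R, fun H hH => ?_⟩
    by_cases htop : H = ⊤
    · exact htop ▸ le_top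
    have hHf : H ∈ s.filter (· ≠ ⊤) := Finset.mem_filter.2 ⟨hH, htop⟩
    refine (hfacts H hHf).2.2 R fun x hx => ?_
    obtain ⟨hxL, hxQ⟩ := hR x hx
    by_cases h1 : H = H₁
    · exact h1 ▸ pGen_le _ hxL
    · have hmem : (⟨x, hxL⟩ : ↥L₁) ∈ stabilizer ↥L₁ ((1 : G) : G ⧸ M' H) :=
        hQ _ (Finset.mem_image.2 ⟨H, Finset.mem_erase.2 ⟨h1, hHf⟩, rfl⟩) hxQ
      rw [← base_stabilizer (M' H)]
      exact mem_stabilizer_iff.2 (mem_stabilizer_iff.1 hmem)

omit [Finite G] in
/-- A `p`-element outside `M` has a power outside `M` whose `p`-th power is inside. -/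
theorem exists_period_p (M : Subgroup G) : ∀ (k : ℕ) (x : G), x ∉ M → x ^ p ^ k = 1 →
    ∃ y : G, y ∉ M ∧ y ^ p ∈ M ∧ ∃ j : ℕ, orderOf y = p ^ j := by
  intro k
  induction k with
  | zero =>
    intro x hx h
    rw [pow_zero, pow_one] at h
    exact absurd (h ▸ one_mem M) hx
  | succ k ih =>
    intro x hx h
    by_cases hxp : x ^ p ∈ M
    · obtain ⟨j, -, hj⟩ := (Nat.dvd_prime_pow (Fact.out : p.Prime)).1 (orderOf_dvd_of_pow_eq_one h)
      exact ⟨x, hx, hxp, j, hj⟩
    · exact ih (x ^ p) hxp (by rw [← pow_mul, ← pow_succ']; exact h)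

theorem mainAt (p : ℕ) [Fact p.Prime] : ∀ N : ℕ, MainAt.{u} p N := by
  intro N
  induction N with
  | zero =>
    intro G _ _ h
    exact absurd h (Nat.not_le.2 Nat.card_pos)
  | succ N ih =>
    intro G _ _ hG hgen H₀ hH₀
    classical
    obtain ⟨M, hco, hle⟩ := (eq_top_or_exists_le_coatom H₀).resolve_left hH₀
    have hp2 : (2 : ℤ) ≤ p := by exact_mod_cast (Fact.out : p.Prime).two_le
    obtain ⟨g, -, heq, -⟩ := dfct_le_step (p := p) hle
    rw [heq]
    suffices hDM : 0 ≤ dfct p G (G ⧸ M) by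
      exact add_nonneg (mul_nonneg (Int.natCast_nonneg _) hDM)
        (mul_nonneg (by linarith) (Int.natCast_nonneg _))
    by_cases hfx : fxN p G (G ⧸ M) = 0
    · rw [dfct, hfx]
      push_cast
      nlinarith [Int.natCast_nonneg (Nat.card (G ⧸ M))]
    obtain ⟨P, hP⟩ := exists_sylow_le hfx
    by_contra hneg
    set L := pGen p M with hL
    have hLG : Nat.card ↥L ≤ N := by
      have h1 : Nat.card ↥L < Nat.card G := by
        refine lt_of_le_of_ne L.card_le_card_group fun h => hco.1 ?_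
        exact top_unique ((Subgroup.eq_top_of_card_eq L h).ge.trans (pGen_le M))
      omega
    have hF := fixed_le_one hgen hco hco.1 P hP le_rfl
    obtain ⟨h0, hall⟩ := dfct_orbit_split (ih ↥L hLG (pGen_generated _)) (G ⧸ M)
    have e : dfct p ↥L (G ⧸ M) = dfct p G (G ⧸ M) :=
      dfct_subgroup (G ⧸ M) L P (sylow_le_pGen hP)
    rw [e] at h0 hall
    have hF' : (Nat.card ↥(fixedPoints ↥L (G ⧸ M)) : ℤ) ≤ 1 := by exact_mod_cast hF
    obtain ⟨c, hc⟩ := dvd_dfct (p := p) (G := G) (G ⧸ M)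
    have hc0 : c ≤ -1 := by
      by_contra hc'
      exact hneg (hc ▸ mul_nonneg (by linarith) (by omega))
    have hsum : dfct p G (G ⧸ M) + (p : ℤ) * Nat.card ↥(fixedPoints ↥L (G ⧸ M)) ≤ 0 := by
      rw [hc]
      nlinarith
    obtain ⟨x, hxk, hxM⟩ : ∃ x : G, (∃ k : ℕ, orderOf x = p ^ k) ∧ x ∉ M := by
      by_contra h
      push Not at h
      exact hco.1 (top_unique (hgen ▸ (Subgroup.closure_le _).2 h))
    obtain ⟨k, hk⟩ := hxk
    obtain ⟨y, hyM, hypM, j, hyj⟩ := exists_period_p (p := p) M k x hxM (hk ▸ pow_orderOf_eq_one x)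
    let base : G ⧸ M := ((1 : G) : G ⧸ M)
    have hppos : 0 < p := (Fact.out : p.Prime).pos
    let s : Finset (Subgroup ↥L) :=
      (Finset.Ico 1 p).image fun i : ℕ => stabilizer ↥L (y ^ i • base)
    have hs : s.card ≤ p - 1 := Finset.card_image_le.trans (Nat.card_Ico 1 p).le
    obtain ⟨Q, hQ⟩ := exists_common_sylow ih (p - 1) ↥L hLG (pGen_generated _) 0 s hs
      (by omega) fun K hK => by
        obtain ⟨i, -, rfl⟩ := Finset.mem_image.1 hK
        simpa using (hall _).trans hsum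
    obtain ⟨R, hR⟩ := exists_sylow_lift P (sylow_le_pGen hP) Q
    let S : Set (G ⧸ M) := Set.range fun i : ℤ => y ^ i • base
    let K : Subgroup G := fixingSubgroup G S
    have hbase : ∀ i : ℤ, y ^ ((p : ℤ) * i) • base = base := fun i => by
      rw [← mem_stabilizer_iff, base_stabilizer, zpow_mul, zpow_natCast]
      exact zpow_mem hypM i
    have hRK : (R : Subgroup G) ≤ K := by
      intro z hz
      obtain ⟨hzL, hzQ⟩ := hR z hz
      refine (mem_fixingSubgroup_iff G).2 ?_
      rintro _ ⟨i, rfl⟩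
      obtain ⟨n, hn⟩ := Int.eq_ofNat_of_zero_le (Int.emod_nonneg i (by omega : (p : ℤ) ≠ 0))
      have hnp : n < p := by
        have := Int.emod_lt_of_pos i (by omega : (0 : ℤ) < p)
        omega
      have hi : y ^ i • base = y ^ n • base := by
        conv_lhs => rw [← Int.emod_add_mul_ediv i p, zpow_add, mul_smul, hbase, hn, zpow_natCast]
      change z • (y ^ i • base) = y ^ i • base
      rw [hi]
      rcases Nat.eq_zero_or_pos n with rfl | hn0
      · rw [pow_zero, one_smul, ← mem_stabilizer_iff, base_stabilizer]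
        exact pGen_le _ hzL
      · have hmem : (⟨z, hzL⟩ : ↥L) ∈ stabilizer ↥L (y ^ n • base) :=
          hQ _ (Finset.mem_image.2 ⟨n, Finset.mem_Ico.2 ⟨hn0, hnp⟩, rfl⟩) hzQ
        exact mem_stabilizer_iff.1 hmem
    have hstep : ∀ (d : ℤ) (z : G), z ∈ K → y ^ d * z * (y ^ d)⁻¹ ∈ K := by
      intro d z hz
      refine (mem_fixingSubgroup_iff G).2 ?_
      rintro _ ⟨i, rfl⟩
      have h := (mem_fixingSubgroup_iff G).1 hz (y ^ (i - d) • base) ⟨i - d, rfl⟩
      rw [mul_smul, mul_smul, ← zpow_neg, ← mul_smul (y ^ (-d)), ← zpow_add, neg_add_eq_sub, h,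
        ← mul_smul, ← zpow_add, add_sub_cancel]
    have hyN : y ∈ Subgroup.normalizer (K : Set G) := by
      refine Subgroup.mem_normalizer_iff.2 fun z => ⟨fun hz => by simpa using hstep 1 z hz,
        fun hz => ?_⟩
      simpa [mul_assoc] using hstep (-1) _ hz
    have hKN : K ≤ Subgroup.normalizer (K : Set G) := Subgroup.le_normalizer
    have hy : (⟨y, hyN⟩ : ↥(Subgroup.normalizer (K : Set G))) ∈
        K.subgroupOf (Subgroup.normalizer (K : Set G)) :=
      mem_of_pElement _ (R.subtype (hRK.trans hKN))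
        (fun z hz => hRK hz) (k := j) (by rw [← hyj, Subgroup.orderOf_mk])
    have hyK : y ∈ K := hy
    refine hyM ?_
    have h := (mem_fixingSubgroup_iff G).1 hyK base ⟨0, by simp⟩
    rwa [← mem_stabilizer_iff, base_stabilizer] at h

/-- The bound: a Sylow `p`-subgroup fixes at most `(p-1)/(2p-1)` of the cosets of a proper
subgroup, in a finite group generated by its `p`-elements. -/
theorem dfct_nonneg (hgen : Subgroup.closure {g : G | ∃ k : ℕ, orderOf g = p ^ k} = ⊤)
    {H : Subgroup G} (hH : H ≠ ⊤) : 0 ≤ dfct p G (G ⧸ H) :=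
  mainAt p (Nat.card G) G le_rfl hgen H hH

end Cfsg.Agent.SylowFixed
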